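import Groth.Agent.InvExt.Module

/-! The invertible module of a cocycle of units. -/

set_option autoImplicit false
set_option backward.isDefEq.respectTransparency false

universe u

open CategoryTheory CategoryTheory.Limits AlgebraicGeometry TopologicalSpace Opposite
open Groth.Agent.QC (res resO res_res res_smul resO_resO Sub)

noncomputable section

namespace Groth.Agent.CocycleGlue

variable (X : Scheme.{u}) {ι : Type u} (U : ι → X.Opens) (η : ∀ i j : ι, (Γ(X, U i ⊓ U j))ˣ)

/-- The ambient module of families of functions on the traces of the cover. -/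
abbrev amb : X.Modules := InvExt.pairs (Coh.structureModule X) U

/-- Families of functions transforming by the cocycle. -/
def twisted : Sub (amb X U) where
  obj V :=
    { carrier := {p : InvExt.PairSec (Coh.structureModule X) U V | p.1 = 0 ∧
        ∀ (i j : ι) (O : X.Opens) (h₁ : O ≤ V) (h₂ : O ≤ U i ⊓ U j),
          resO X (le_inf h₁ (h₂.trans inf_le_right)) (p.2 j) =
            resO X (le_inf h₁ (h₂.trans inf_le_left)) (p.2 i) * resO X h₂ (η i j : Γ(X, U i ⊓ U j))}
      zero_mem' := ⟨rfl, fun i j O h₁ h₂ => by
        change resO X _ (0 : Γ(X, V ⊓ U j)) = resO X _ (0 : Γ(X, V ⊓ U i)) * _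
        rw [map_zero, map_zero, zero_mul]⟩
      add_mem' := fun {p q} hp hq => ⟨by
        change (show InvExt.PairSec (Coh.structureModule X) U V from p).1 +
          (show InvExt.PairSec (Coh.structureModule X) U V from q).1 = 0
        rw [hp.1, hq.1, add_zero], fun i j O h₁ h₂ => by
        change resO X _ ((show InvExt.PairSec (Coh.structureModule X) U V from p).2 j +
            (show InvExt.PairSec (Coh.structureModule X) U V from q).2 j) =
          resO X _ ((show InvExt.PairSec (Coh.structureModule X) U V from p).2 i +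
            (show InvExt.PairSec (Coh.structureModule X) U V from q).2 i) * _
        rw [map_add, map_add, add_mul, hp.2 i j O h₁ h₂, hq.2 i j O h₁ h₂]⟩
      smul_mem' := fun r p hp => ⟨by
        change r • (show InvExt.PairSec (Coh.structureModule X) U V from p).1 = 0
        rw [hp.1, smul_zero], fun i j O h₁ h₂ => by
        change resO X _ (resO X inf_le_left r * (show InvExt.PairSec (Coh.structureModule X) U V from p).2 j) =
          resO X _ (resO X inf_le_left r * (show InvExt.PairSec (Coh.structureModule X) U V from p).2 i) * _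
        rw [map_mul, map_mul, resO_resO, resO_resO, hp.2 i j O h₁ h₂, mul_assoc]⟩ }
  res_mem := fun {V' V} h {p} hp => ⟨by
    change res (Coh.structureModule X) h (show InvExt.PairSec (Coh.structureModule X) U V from p).1 = 0
    rw [hp.1, map_zero], fun i j O h₁ h₂ => by
    change resO X _ (resO X (inf_le_inf_right (U j) h) ((show InvExt.PairSec (Coh.structureModule X) U V from p).2 j)) =
      resO X _ (resO X (inf_le_inf_right (U i) h) ((show InvExt.PairSec (Coh.structureModule X) U V from p).2 i)) * _
    rw [resO_resO, resO_resO]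
    exact hp.2 i j O (h₁.trans h) h₂⟩
  local' := fun {V} p hp => ⟨QC.section_eq_of_locally fun x hx => by
    obtain ⟨W, hW, hxW, h1, -⟩ := hp x hx
    exact ⟨W, hW, hxW, h1.trans (map_zero _).symm⟩, fun i j O h₁ h₂ => by
    refine QC.section_eq_of_locally (M := Coh.structureModule X) fun x hx => ?_
    obtain ⟨W, hW, hxW, -, h2⟩ := hp x (h₁ hx)
    refine ⟨O ⊓ W, inf_le_left, ⟨hx, hxW⟩, ?_⟩
    have h3 : resO X (le_inf inf_le_right ((inf_le_left.trans h₂).trans inf_le_right) : O ⊓ W ≤ W ⊓ U j)
          (resO X (inf_le_inf_right (U j) hW) ((show InvExt.PairSec (Coh.structureModule X) U V from p).2 j)) =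
        resO X (le_inf inf_le_right ((inf_le_left.trans h₂).trans inf_le_left) : O ⊓ W ≤ W ⊓ U i)
            (resO X (inf_le_inf_right (U i) hW) ((show InvExt.PairSec (Coh.structureModule X) U V from p).2 i)) *
          resO X (inf_le_left.trans h₂ : O ⊓ W ≤ U i ⊓ U j) (η i j : Γ(X, U i ⊓ U j)) :=
      h2 i j (O ⊓ W) inf_le_right (inf_le_left.trans h₂)
    rw [resO_resO, resO_resO] at h3
    change resO X inf_le_left (resO X _ ((show InvExt.PairSec (Coh.structureModule X) U V from p).2 j)) =
      resO X inf_le_left (resO X _ ((show InvExt.PairSec (Coh.structureModule X) U V from p).2 i) * resO X _ _)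
    rw [map_mul, resO_resO, resO_resO, resO_resO]
    exact h3⟩

variable {X U η}

theorem twisted_gen (hη : ∀ i j k : ι, ∀ (O : X.Opens) (h : O ≤ U i ⊓ U j ⊓ U k),
    resO X (h.trans (inf_le_inf_right (U k) inf_le_left)) (η i k : Γ(X, U i ⊓ U k)) =
      resO X (h.trans inf_le_left) (η i j : Γ(X, U i ⊓ U j)) *
        resO X (h.trans (inf_le_inf_right (U k) inf_le_right)) (η j k : Γ(X, U j ⊓ U k))) :
    ∃ s : ∀ i, Γ((twisted X U η).toModules, U i),
      (∀ (i : ι) (V : X.Opens) (h : V ≤ U i),
        Function.Bijective fun r : Γ(X, V) => r • res (twisted X U η).toModules h (s i)) ∧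
      ∀ i j : ι, res (twisted X U η).toModules (inf_le_left : U i ⊓ U j ≤ U i) (s i) =
        (η i j : Γ(X, U i ⊓ U j)) • res (twisted X U η).toModules (inf_le_right : U i ⊓ U j ≤ U j) (s j) := by
  have hone : ∀ (i : ι) (O : X.Opens) (h : O ≤ U i ⊓ U i), resO X h (η i i : Γ(X, U i ⊓ U i)) = 1 := by
    intro i O h
    have e := hη i i i O (le_inf h (h.trans inf_le_left))
    have hu : IsUnit (resO X h (η i i : Γ(X, U i ⊓ U i))) := (η i i).isUnit.map _
    exact (hu.mul_left_cancel ((mul_one _).trans e)).symm
  have hmem : ∀ i, ((0, fun j => (η i j : Γ(X, U i ⊓ U j))) : InvExt.PairSec (Coh.structureModule X) U (U i)) ∈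
      (twisted X U η).obj (U i) := fun i => ⟨rfl, fun j k O h₁ h₂ => by
    exact hη i j k O (le_inf (le_inf h₁ (h₂.trans inf_le_left)) (h₂.trans inf_le_right))⟩
  let s : ∀ i, Γ((twisted X U η).toModules, U i) := fun i => ⟨_, hmem i⟩
  refine ⟨s, fun i V hV => ?_, fun i j => ?_⟩
  · have hval : ∀ r : Γ(X, V), ((twisted X U η).ι.app V (r • res (twisted X U η).toModules hV (s i)) :
        InvExt.PairSec (Coh.structureModule X) U V) =
        (r • res (Coh.structureModule X) hV 0,
          fun j => resO X inf_le_left r * resO X (inf_le_inf_right (U j) hV) (η i j : Γ(X, U i ⊓ U j))) := fun r => by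
      rw [Scheme.Modules.Hom.app_smul]
      rfl
    have hVi : V ≤ V ⊓ U i := le_inf le_rfl hV
    refine ⟨fun r r' h => ?_, fun p => ?_⟩
    · have h' := congrArg (fun q => ((twisted X U η).ι.app V q : InvExt.PairSec (Coh.structureModule X) U V).2 i) h
      simp only [hval, hone i _ (inf_le_inf_right (U i) hV), mul_one] at h'
      have := congrArg (resO X hVi) h'
      rwa [resO_resO, resO_resO, QC.resO_self, QC.resO_self] at this
    · let q : InvExt.PairSec (Coh.structureModule X) U V := (twisted X U η).ι.app V p
      have hq : q ∈ (twisted X U η).obj V := ((twisted X U η).range_ι_app V _).1 ⟨p, rfl⟩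
      refine ⟨resO X hVi (q.2 i), (twisted X U η).ι_app_injective V ((hval _).trans (Prod.ext ?_ (funext fun j => ?_)))⟩
      · change resO X hVi (q.2 i) • res (Coh.structureModule X) hV 0 = q.1
        rw [map_zero, smul_zero, hq.1]
      · change resO X inf_le_left (resO X hVi (q.2 i)) * resO X _ _ = q.2 j
        have e := hq.2 i j (V ⊓ U j) inf_le_left (inf_le_inf_right (U j) hV)
        rw [QC.resO_self] at e
        rw [e, resO_resO]
  · refine (twisted X U η).ι_app_injective _ ?_
    rw [Scheme.Modules.Hom.app_smul]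
    refine Prod.ext ?_ (funext fun l => ?_)
    · change res (Coh.structureModule X) _ 0 = (η i j : Γ(X, U i ⊓ U j)) • res (Coh.structureModule X) _ 0
      rw [map_zero, map_zero, smul_zero]
    · change resO X (inf_le_inf_right (U l) inf_le_left) (η i l : Γ(X, U i ⊓ U l)) =
        resO X inf_le_left (η i j : Γ(X, U i ⊓ U j)) * resO X (inf_le_inf_right (U l) inf_le_right) (η j l : Γ(X, U j ⊓ U l))
      exact hη i j l (U i ⊓ U j ⊓ U l) le_rfl

end Groth.Agent.CocycleGlue
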